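import Cfsg.Agent.Lib.Cert.L32s.UV

set_option autoImplicit false
set_option maxRecDepth 100000

namespace Cfsg.Agent.Ct.L32s.V0

open Cfsg.Agent.PC

open Cfsg.Agent.Fi Cfsg.Agent.Ct
def Ef_t : TN := (TN.leaf (nat_lit 0xa6f2d095de65b8038adf2075b8ed5603b7e3c184cf74a9129bce3164a9fc4712))
noncomputable def Ef (i : ℕ) : ℕ := get9 Ef_t (nat_lit 4) (nat_lit 15) i
noncomputable def E (j c : ℕ) : ℕ := Ef (Nat.add (Nat.mul j (nat_lit 8)) c)
def iw (i : ℕ) : ℕ := Nat.land (Nat.shiftRight (nat_lit 0x688fac) (Nat.mul (nat_lit 3) i)) (nat_lit 7)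
def a (i : ℕ) : ℕ := Nat.land (Nat.shiftRight (nat_lit 1) (Nat.mul (nat_lit 1) i)) (nat_lit 1)
def ws : List (List ℕ × ℕ) := [([nat_lit 0, nat_lit 1, nat_lit 0, nat_lit 1], (nat_lit 1)), ([nat_lit 0, nat_lit 2, nat_lit 0, nat_lit 2, nat_lit 0, nat_lit 2], (nat_lit 1)), ([nat_lit 0, nat_lit 1, nat_lit 2, nat_lit 0, nat_lit 1, nat_lit 2, nat_lit 0, nat_lit 1, nat_lit 2], (nat_lit 1)), ([nat_lit 0, nat_lit 3, nat_lit 0, nat_lit 3, nat_lit 0, nat_lit 3], (nat_lit 0)), ([nat_lit 1, nat_lit 3, nat_lit 1, nat_lit 3, nat_lit 1, nat_lit 3], (nat_lit 1)), ([nat_lit 2, nat_lit 3, nat_lit 2, nat_lit 3], (nat_lit 1)), ([nat_lit 1, nat_lit 2, nat_lit 3, nat_lit 1, nat_lit 2, nat_lit 3, nat_lit 1, nat_lit 2, nat_lit 3], (nat_lit 0)), ([nat_lit 0, nat_lit 0], (nat_lit 1)), ([nat_lit 1, nat_lit 1], (nat_lit 1)), ([nat_lit 2, nat_lit 2], (nat_lit 1)), ([nat_lit 3, nat_lit 3], (nat_lit 1)),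 ([nat_lit 7, nat_lit 4, nat_lit 6, nat_lit 4, nat_lit 7, nat_lit 5, nat_lit 6, nat_lit 7, nat_lit 5, nat_lit 3, nat_lit 0, nat_lit 2, nat_lit 0, nat_lit 3, nat_lit 1, nat_lit 3, nat_lit 2, nat_lit 1], (nat_lit 1))]
noncomputable def f1 : ℕ → ℕ := permE (mT E (nat_lit 2)) iw (nat_lit 16) (nat_lit 8)
noncomputable def f2 : ℕ → ℕ := scE E (nat_lit 2) ws
theorem ca0 : Nat.beq (rng f1 (nat_lit 0) (nat_lit 16)) (nat_lit 0) = true := by decide +kernel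
theorem cb0 : Nat.beq (rng f2 (nat_lit 0) (nat_lit 8)) (nat_lit 0) = true := by decide +kernel
theorem h1 : ∀ i < 16, f1 i = 0 := by
  have h := zero_lt_zero f1
  have h := zero_lt_add (a := (nat_lit 0)) (n := (nat_lit 16)) (b := (nat_lit 16)) h ca0 rfl
  exact h
theorem h2 : ∀ i < 8, f2 i = 0 := by
  have h := zero_lt_zero f2
  have h := zero_lt_add (a := (nat_lit 0)) (n := (nat_lit 8)) (b := (nat_lit 8)) h cb0 rfl
  exact h
theorem cov : Cov (fun j => j) L32.rels 4 U V [2] := cov_of (M := 15) (N := 8) rfl (by decide +kernel) h1 h2 a (by decide +kernel)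

end Cfsg.Agent.Ct.L32s.V0
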